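import Mathlib.Algebra.Homology.DerivedCategory.Ext.EnoughProjectives
import Mathlib.Algebra.Homology.DerivedCategory.Ext.Linear
import Mathlib.Algebra.Homology.ShortComplex.ModuleCat
import Mathlib.Algebra.Category.ModuleCat.Projective
import Mathlib.Algebra.Category.ModuleCat.Ext.HasExt
import Mathlib.LinearAlgebra.Dual.Lemmas

/-!
# `Ext¹` out of a module with a two-term free resolution
-/

set_option autoImplicit false

universe u

open CategoryTheory Abelian

namespace Groth.Agent.ExtPres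

theorem ext1_coker {R : Type u} [CommRing R] {m n : ℕ} (δ : (Fin m → R) →ₗ[R] (Fin n → R))
    (hδ : Function.Injective δ) (M : Type u) [AddCommGroup M] [Module R M] (π : (Fin n → R) →ₗ[R] M)
    (hπ : Function.Surjective π) (hex : Function.Exact δ π) :
    Nonempty ((Module.Dual R (Fin m → R) ⧸ LinearMap.range δ.dualMap) ≃ₗ[R]
      Ext (ModuleCat.of R M) (ModuleCat.of R R) 1) := by
  let S : ShortComplex (ModuleCat.{u} R) := ShortComplex.mk (ModuleCat.ofHom δ) (ModuleCat.ofHom π) (by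
    ext x
    exact hex.apply_apply_eq_zero _)
  have hS : S.ShortExact :=
    { exact := (ShortComplex.moduleCat_exact_iff _).2 fun c hc => (hex c).1 hc
      mono_f := (ModuleCat.mono_iff_injective _).2 hδ
      epi_g := (ModuleCat.epi_iff_surjective _).2 hπ }
  haveI h2 : Projective S.X₂ := (IsProjective.iff_projective (Fin n → R)).1 inferInstance
  let Y := ModuleCat.of R R
  let Φ : Module.Dual R (Fin m → R) →ₗ[R] Ext S.X₃ Y 1 :=
    { toFun := fun φ => hS.extClass.comp (Ext.mk₀ (ModuleCat.ofHom φ : S.X₁ ⟶ Y)) (add_zero 1)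
      map_add' := fun φ ψ => by
        rw [ModuleCat.ofHom_add, Ext.mk₀_add, Ext.comp_add]
      map_smul' := fun r φ => by
        rw [show (ModuleCat.ofHom (r • φ) : S.X₁ ⟶ Y) = r • (ModuleCat.ofHom φ : S.X₁ ⟶ Y) from rfl,
          Ext.mk₀_smul, Ext.comp_smul]
        rfl }
  have hsurj : Function.Surjective Φ := by
    intro z
    obtain ⟨x₁, hx₁⟩ := Ext.contravariant_sequence_exact₃ hS Y z (Ext.eq_zero_of_projective _)
      (show 1 + 0 = 1 by rfl)
    obtain ⟨φ, rfl⟩ := Ext.addEquiv₀.symm.surjective x₁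
    exact ⟨φ.hom, hx₁⟩
  have hker : LinearMap.ker Φ = LinearMap.range δ.dualMap := by
    refine le_antisymm (fun φ hφ => ?_) ?_
    · obtain ⟨x₂, hx₂⟩ := Ext.contravariant_sequence_exact₁ hS Y _ (show 1 + 0 = 1 by rfl)
        (show hS.extClass.comp (Ext.mk₀ (ModuleCat.ofHom φ : S.X₁ ⟶ Y)) (add_zero 1) = 0 from hφ)
      obtain ⟨ψ, rfl⟩ := Ext.addEquiv₀.symm.surjective x₂
      have he : S.f ≫ ψ = (ModuleCat.ofHom φ : S.X₁ ⟶ Y) :=
        (Ext.mk₀_bijective _ _).1 ((Ext.mk₀_comp_mk₀ _ _).symm.trans hx₂)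
      exact ⟨ψ.hom, congrArg ModuleCat.Hom.hom he⟩
    · rintro _ ⟨ψ, rfl⟩
      show hS.extClass.comp (Ext.mk₀ (ModuleCat.ofHom (δ.dualMap ψ) : S.X₁ ⟶ Y)) (add_zero 1) = 0
      rw [show (ModuleCat.ofHom (δ.dualMap ψ) : S.X₁ ⟶ Y) = S.f ≫ (ModuleCat.ofHom ψ : S.X₂ ⟶ Y) from rfl,
        ← Ext.mk₀_comp_mk₀, hS.extClass_comp_assoc]
  exact ⟨(Submodule.quotEquivOfEq _ _ hker.symm).trans (LinearMap.quotKerEquivOfSurjective Φ hsurj)⟩

end Groth.Agent.ExtPres
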